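import Cfsg.Agent.H954.LD.Row
import Cfsg.Agent.H732.DS.McLDeg
import Cfsg.Agent.H174.Two.McL
import Cfsg.Agent.H489.OutSpor
import Cfsg.Agent.H653.Sieve.Col
import Cfsg.Agent.H678.Codeg
import Cfsg.Agent.H686.CharKit

/-!
# S4910: the row of `McL` (helper901, task 5236): degrees 22 and 5103

The column of the elements of order 11 shows that there is only one character of degree 5103.
-/

set_option autoImplicit false
set_option linter.unusedSectionVars false

namespace Cfsg.Agent.H901.LD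

open Cfsg Cfsg.Agent.H954.LD Cfsg.Agent.Characters.Core Cfsg.Agent.H653.Sieve

universe u

namespace McL

def LL : List (ℕ × ℕ) := [(11, 1), (7, 1), (5, 3), (3, 6), (2, 7)]

def ex11 : List ℕ := [5, 6, 16, 27, 28, 50, 60, 72, 105, 126, 160, 192, 225, 270, 280, 324, 336, 500, 567, 600, 720,
  864, 875, 896, 1050, 1215, 1260, 1458, 1512, 1600, 1920, 2250, 2700, 2800, 3240, 3360, 3888, 4032, 4725, 5670, 6000,
  6804, 7200, 8640, 10125, 10368, 10500, 12150, 12600, 14580, 15120, 16000, 18144, 25515, 27000, 28000]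

def good (d : ℕ) : Bool := Nat.ble 898128000 (d * d) || !(Nat.beq (d % 11) 5 || Nat.beq (d % 11) 6) || ex11.contains d

theorem hdiv : allDiv 898128000 good LL 1 = true := by decide +kernel

def sg (d : ℕ) : ℤ := bif Nat.beq (d % 11) 6 then 1 else -1

theorem num : ∀ a ∈ ex11, ∀ b ∈ ex11, sg a * a + sg b * b ≠ 11914 := by decide +kernel

theorem mem_ex {d : ℕ} (hd : d ∣ 898128000) (h2 : d * d < 898128000) (h : d % 11 = 5 ∨ d % 11 = 6) : d ∈ ex11 := by
  have h1 := allDiv_spec (L := LL) (by decide +kernel) hdiv d (by rw [show facProd LL = 898128000 by decide +kernel]; exact hd)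
    (by rw [one_mul]; exact h2)
  rw [one_mul, good] at h1
  have h3 : (!(Nat.beq (d % 11) 5 || Nat.beq (d % 11) 6)) = false := by
    rcases h with h | h <;> rw [h] <;> decide
  have h4 : Nat.ble 898128000 (d * d) = false := by
    rw [Bool.eq_false_iff]
    intro h5
    exact absurd (Nat.le_of_ble_eq_true h5) (by omega)
  rw [h3, h4, Bool.false_or, Bool.false_or] at h1
  simpa using h1

end McL

section

variable {S : Type u} [Group S] [Finite S]

theorem exists_one : ∃ χ : IrrCharacter S, charDegree (χ : S → ℂ) = 1 := by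
  have h1 : IsIrrCharacter S (fun _ : S => (1 : ℂ)) := Blocks.Basic.isIrrCharacter_one
  refine ⟨⟨_, h1⟩, ?_⟩
  have h2 := Blocks.Basic.irr_one_eq_charDegree h1
  exact_mod_cast h2.symm

theorem deg_sq_lt (hN : Nat.card S = 898128000) (χ : IrrCharacter S) :
    charDegree (χ : S → ℂ) * charDegree (χ : S → ℂ) < 898128000 := by
  classical
  have : Fintype (IrrCharacter S) := by
    have : Finite (IrrCharacter S) := finite_irr
    exact Fintype.ofFinite _
  have h1 := H686.CharKit.sum_deg_sq (G := S)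
  have h2 : charDegree (χ : S → ℂ) ^ 2 ≤ ∑ χ : IrrCharacter S, charDegree (χ : S → ℂ) ^ 2 :=
    Finset.single_le_sum (f := fun χ : IrrCharacter S => charDegree (χ : S → ℂ) ^ 2) (fun _ _ => Nat.zero_le _)
      (Finset.mem_univ χ)
  rw [h1, hN, sq] at h2
  refine lt_of_le_of_ne h2 fun h3 => ?_
  have h4 : charDegree (χ : S → ℂ) ≤ 29968 ∨ 29969 ≤ charDegree (χ : S → ℂ) := by omega
  rcases h4 with h4 | h4
  · have := Nat.mul_le_mul h4 h4
    omega
  · have := Nat.mul_le_mul h4 h4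
    omega

theorem unique_5103 [IsSimpleGroup S] (hna : ¬ IsMulCommutative S) (h : Spor.IsoMcL S) {β ψ : IrrCharacter S}
    (hβ : charDegree (β : S → ℂ) = 5103) (hψ : charDegree (ψ : S → ℂ) = 5103) : ψ = β := by
  classical
  have hN := H904.McLCent.card_L h
  have : Fintype (IrrCharacter S) := by
    have : Finite (IrrCharacter S) := finite_irr
    exact Fintype.ofFinite _
  have hf11 : Fact (Nat.Prime 11) := ⟨by norm_num⟩
  obtain ⟨x, hx⟩ := exists_prime_orderOf_dvd_card' (G := S) 11 (by rw [hN]; norm_num)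
  have hc : Nat.card (Subgroup.centralizer ({x} : Set S)) = 11 * 1 := by
    have h1 := (H904.McLCent.eleven h (Subgroup.zpowers x) (by rw [Nat.card_zpowers, hx])).1
    rw [SmallSimple.SelfCentPrime.centralizer_zpowers] at h1
    rw [h1]
  obtain ⟨P, W, -, -, -, hW⟩ := exists_col hna hN hx hc 5 2 [(0, 0), (1, 2), (5, -1), (6, 1), (10, -2)] 2 true
    (by decide +kernel)
  by_contra hne
  obtain ⟨φ1, hφ1⟩ : ∃ χ : IrrCharacter S, charDegree (χ : S → ℂ) = 1 := H901.LD.exists_one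
  obtain ⟨φ2, hφ2⟩ := H593.IMSpor.mcl_252 h
  obtain ⟨-, ⟨φ3, hφ3⟩, -⟩ := H174.Two.McL.mcl_deg h
  have hmem : ∀ χ : IrrCharacter S, (charDegree (χ : S → ℂ) % 11, W χ) ∈
      [((0 : ℕ), (0 : ℤ)), (1, 2), (5, -1), (6, 1), (10, -2)] := hW.mem
  have w1 : W φ1 = 2 := by have := hmem φ1; rw [hφ1] at this; simpa using this
  have w2 : W φ2 = -2 := by have := hmem φ2; rw [hφ2] at this; simpa using this
  have w3 : W φ3 = 2 := by have := hmem φ3; rw [hφ3] at this; simpa using this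
  have w4 : W β = -2 := by have := hmem β; rw [hβ] at this; simpa using this
  have w5 : W ψ = -2 := by have := hmem ψ; rw [hψ] at this; simpa using this
  have hd : ∀ {χ χ' : IrrCharacter S}, charDegree (χ : S → ℂ) ≠ charDegree (χ' : S → ℂ) → χ ≠ χ' := by
    rintro χ χ' h1 rfl
    exact h1 rfl
  obtain ⟨A, hA⟩ : ∃ A : Finset (IrrCharacter S), A = {φ1, φ2, φ3, β, ψ} := ⟨_, rfl⟩
  have hsum : ∀ f : IrrCharacter S → ℤ, ∑ χ ∈ A, f χ = f φ1 + (f φ2 + (f φ3 + (f β + f ψ))) := by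
    intro f
    rw [hA, Finset.sum_insert, Finset.sum_insert, Finset.sum_insert, Finset.sum_insert, Finset.sum_singleton]
    · simp only [Finset.mem_singleton]
      exact fun h1 => hne h1.symm
    · simp only [Finset.mem_insert, Finset.mem_singleton, not_or]
      exact ⟨hd (by rw [hφ3, hβ]; norm_num), hd (by rw [hφ3, hψ]; norm_num)⟩
    · simp only [Finset.mem_insert, Finset.mem_singleton, not_or]
      exact ⟨hd (by rw [hφ2, hφ3]; norm_num), hd (by rw [hφ2, hβ]; norm_num), hd (by rw [hφ2, hψ]; norm_num)⟩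
    · simp only [Finset.mem_insert, Finset.mem_singleton, not_or]
      exact ⟨hd (by rw [hφ1, hφ2]; norm_num), hd (by rw [hφ1, hφ3]; norm_num), hd (by rw [hφ1, hβ]; norm_num),
        hd (by rw [hφ1, hψ]; norm_num)⟩
  obtain ⟨B, hB⟩ : ∃ B : Finset (IrrCharacter S), B = (Finset.univ \ A).filter fun χ => W χ ≠ 0 := ⟨_, rfl⟩
  have hsplit : ∀ f : IrrCharacter S → ℤ, (∀ χ, W χ = 0 → f χ = 0) → ∑ χ, f χ = ∑ χ ∈ B, f χ + ∑ χ ∈ A, f χ := by
    intro f hf
    rw [← Finset.sum_sdiff (Finset.subset_univ A)]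
    congr 1
    rw [hB, Finset.sum_filter]
    refine Finset.sum_congr rfl fun χ _ => ?_
    by_cases h0 : W χ = 0
    · rw [if_neg (not_not.2 h0), hf χ h0]
    · rw [if_pos h0]
  have hdeg : ∑ χ : IrrCharacter S, W χ * (charDegree (χ : S → ℂ) : ℤ) = 0 := hW.deg
  have hsq : ∑ χ : IrrCharacter S, W χ * W χ = 22 := by
    have := hW.sq
    simpa using this
  rw [hsplit _ (fun χ h0 => by rw [h0, zero_mul]), hsum, w1, w2, w3, w4, w5, hφ1, hφ2, hφ3, hβ, hψ] at hdeg
  rw [hsplit _ (fun χ h0 => by rw [h0, zero_mul]), hsum, w1, w2, w3, w4, w5] at hsq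
  have hsq' : ∑ χ ∈ B, W χ * W χ = 2 := by linarith
  have hdeg' : ∑ χ ∈ B, W χ * (charDegree (χ : S → ℂ) : ℤ) = 11914 := by
    push_cast at hdeg
    linarith
  have hB0 : ∀ χ ∈ B, W χ ≠ 0 := fun χ hχ => by
    rw [hB] at hχ
    exact (Finset.mem_filter.1 hχ).2
  have hval : ∀ χ, W χ = 0 ∨ W χ * W χ = 4 ∨
      (W χ * W χ = 1 ∧ charDegree (χ : S → ℂ) ∈ McL.ex11 ∧ W χ = McL.sg (charDegree (χ : S → ℂ))) := by
    intro χ
    have h1 := hmem χ
    simp only [List.mem_cons, Prod.mk.injEq, List.not_mem_nil, or_false] at h1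
    have hdv := H678.Codeg.charDegree_dvd_card χ
    rw [hN] at hdv
    rcases h1 with ⟨-, h1⟩ | ⟨-, h1⟩ | ⟨h0, h1⟩ | ⟨h0, h1⟩ | ⟨-, h1⟩
    · exact Or.inl h1
    · exact Or.inr (Or.inl (by rw [h1]; norm_num))
    · refine Or.inr (Or.inr ⟨by rw [h1]; norm_num, McL.mem_ex hdv (deg_sq_lt hN χ) (Or.inl h0), ?_⟩)
      rw [h1, McL.sg, h0]; rfl
    · refine Or.inr (Or.inr ⟨by rw [h1]; norm_num, McL.mem_ex hdv (deg_sq_lt hN χ) (Or.inr h0), ?_⟩)
      rw [h1, McL.sg, h0]; rfl
    · exact Or.inr (Or.inl (by rw [h1]; norm_num))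
  -- every member of `B` has `|W| = 1`
  have hone : ∀ χ ∈ B, W χ * W χ = 1 ∧ charDegree (χ : S → ℂ) ∈ McL.ex11 ∧ W χ = McL.sg (charDegree (χ : S → ℂ)) := by
    intro χ hχ
    rcases hval χ with h1 | h1 | h1
    · exact absurd h1 (hB0 χ hχ)
    · exfalso
      have h2 : W χ * W χ ≤ ∑ χ ∈ B, W χ * W χ :=
        Finset.single_le_sum (f := fun χ => W χ * W χ) (fun χ _ => mul_self_nonneg _) hχ
      rw [h1, hsq'] at h2
      omega
    · exact h1
  have hcard : B.card = 2 := by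
    have h1 : ∑ χ ∈ B, W χ * W χ = ∑ χ ∈ B, (1 : ℤ) := Finset.sum_congr rfl fun χ hχ => (hone χ hχ).1
    rw [hsq', Finset.sum_const, nsmul_eq_mul, mul_one] at h1
    exact_mod_cast h1.symm
  obtain ⟨x1, x2, h12, hBe⟩ := Finset.card_eq_two.1 hcard
  rw [hBe, Finset.sum_pair h12] at hdeg'
  obtain ⟨-, h3, h4⟩ := hone x1 (by rw [hBe]; simp)
  obtain ⟨-, h5, h6⟩ := hone x2 (by rw [hBe]; simp)
  rw [h4, h6] at hdeg'
  exact McL.num _ h3 _ h5 hdeg'

/-- **The row of `McL`.** -/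
theorem row_McL [IsSimpleGroup S] (hna : ¬ IsMulCommutative S) (h : Spor.IsoMcL S) : H954.LD.CopRow S := by
  have h2 : Nat.card (Out S) ≤ 2 := H489.card_out_sporadic (by unfold IsSporadicGroup; tauto)
  obtain ⟨-, -, ⟨β, hβ⟩⟩ := H174.Two.McL.mcl_deg h
  have hiβ : Inv β := inv_of_unique fun ψ hψ => unique_5103 hna h hβ (hψ.trans hβ)
  obtain ⟨e⟩ := h
  obtain ⟨α, hα, hα1, hinv⟩ := H732.DS.exists_inv_22
  let a : IrrCharacter S := ⟨α ∘ e.toMonoidHom, isIrr_comp e.toMonoidHom e.surjective hα⟩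
  have ha : charDegree (a : S → ℂ) = 22 := by
    have h3 : (a : S → ℂ) 1 = 22 := by
      show α (e 1) = 22
      rw [map_one, hα1]
    have h4 := Blocks.Basic.irr_one_eq_charDegree a.2
    rw [h3] at h4
    exact_mod_cast h4.symm
  have hia : Inv a := by
    intro b s
    show α (e (b s)) = α (e s)
    have h3 := hinv ((e.symm.trans b).trans e) (e s)
    simpa using h3
  refine copRow_inv hna h2 (α := a) (β := β) (by rw [ha]; norm_num) (by rw [hβ]; norm_num) ?_ hia hiβ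
  rw [ha, hβ]
  norm_num

end

end Cfsg.Agent.H901.LD
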